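import Groth.Agent.FibreNoether.Nagata
import Groth.Agent.GrSegreLib.Dim
import Mathlib.RingTheory.LocalRing.ResidueField.Fiber
import Mathlib.Topology.Spectral.ConstructibleTopology
import Mathlib.RingTheory.QuasiFinite.Basic

/-!
# Weak relative Noether normalisation

A finite type algebra with fibres of dimension at most `d` admits a map from a polynomial ring in
`d` variables which is finite on every fibre.
-/

set_option autoImplicit false
set_option linter.style.haveILetI false

open MvPolynomial TensorProduct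

namespace Groth.Agent.FibreNoether

universe u

variable {R S : Type u} [CommRing R] [CommRing S] [Algebra R S]

/-- The map from a polynomial ring over `κ(p)` to the fibre given by elements of `S`. -/
noncomputable def fibHom {n : ℕ} (a : Fin n → S) (p : Ideal R) [p.IsPrime] :
    MvPolynomial (Fin n) p.ResidueField →ₐ[p.ResidueField] p.Fiber S :=
  aeval fun i ↦ (1 : p.ResidueField) ⊗ₜ[R] a i

theorem fibHom_map {n : ℕ} (a : Fin n → S) (p : Ideal R) [p.IsPrime] (G : MvPolynomial (Fin n) R) :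
    fibHom a p (MvPolynomial.map (algebraMap R p.ResidueField) G) =
      (1 : p.ResidueField) ⊗ₜ[R] aeval a G := by
  induction G using MvPolynomial.induction_on with
  | C r =>
    rw [fibHom, map_C, aeval_C, aeval_C, Algebra.TensorProduct.algebraMap_apply,
      Algebra.algebraMap_self_apply, Algebra.algebraMap_eq_smul_one, Algebra.algebraMap_eq_smul_one,
      TensorProduct.smul_tmul]
  | add g h hg hh => rw [map_add, map_add, map_add, tmul_add, hg, hh]
  | mul_X g i hg =>
    rw [map_mul, map_mul, map_mul, hg, map_X, fibHom, aeval_X, aeval_X,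
      Algebra.TensorProduct.tmul_mul_tmul, one_mul]

/-- The property being propagated: integrality on every fibre. -/
def IsFibreIntegral {n : ℕ} (a : Fin n → S) : Prop :=
  ∀ p : PrimeSpectrum R, (fibHom a p.asIdeal).toRingHom.IsIntegral

theorem exists_generators [Algebra.FiniteType R S] :
    ∃ (n : ℕ) (a : Fin n → S), IsFibreIntegral (R := R) a := by
  obtain ⟨n, f, hf⟩ := Algebra.FiniteType.iff_quotient_mvPolynomial''.mp ‹Algebra.FiniteType R S›
  refine ⟨n, fun i ↦ f (X i), fun p ↦ RingHom.IsIntegral.of_finite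
    (RingHom.Finite.of_surjective _ fun z ↦ ?_)⟩
  induction z using TensorProduct.induction_on with
  | zero => exact ⟨0, map_zero _⟩
  | add x y hx hy =>
    obtain ⟨x', rfl⟩ := hx
    obtain ⟨y', rfl⟩ := hy
    exact ⟨x' + y', map_add _ _ _⟩
  | tmul c s =>
    obtain ⟨G, rfl⟩ := hf s
    refine ⟨C c * MvPolynomial.map (algebraMap R p.asIdeal.ResidueField) G, ?_⟩
    show fibHom _ p.asIdeal (C c * _) = _
    rw [map_mul, fibHom_map, show aeval (fun i ↦ f (X i)) = f from (aeval_unique f).symm, fibHom, aeval_C,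
      Algebra.TensorProduct.algebraMap_apply, Algebra.TensorProduct.tmul_mul_tmul, one_mul,
      Algebra.algebraMap_self_apply, mul_one]

theorem exists_map_eq_C_mul {σ : Type*} (p : Ideal R) [p.IsPrime] (f : MvPolynomial σ p.ResidueField) :
    ∃ (G : MvPolynomial σ R) (r : R), r ∉ p ∧
      MvPolynomial.map (algebraMap R p.ResidueField) G = C (algebraMap R p.ResidueField r) * f := by
  induction f using MvPolynomial.induction_on with
  | C c =>
    obtain ⟨⟨x, hx⟩, ⟨y, hy⟩, e⟩ :
        ∃ (x : {_x : R // True}) (r : {r : R // r ∉ p}),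
          algebraMap R p.ResidueField r.1 * c = algebraMap R p.ResidueField x.1 := by
      obtain ⟨⟨z, w⟩, hzw⟩ := IsLocalization.surj (nonZeroDivisors (R ⧸ p)) c
      obtain ⟨z, rfl⟩ := Ideal.Quotient.mk_surjective z
      obtain ⟨w, hw⟩ := w
      obtain ⟨w, rfl⟩ := Ideal.Quotient.mk_surjective w
      refine ⟨⟨z, trivial⟩, ⟨w, fun h ↦ nonZeroDivisors.ne_zero hw (Ideal.Quotient.eq_zero_iff_mem.2 h)⟩, ?_⟩
      rw [mul_comm]
      simpa [← IsScalarTower.algebraMap_apply, ← Ideal.Quotient.algebraMap_eq] using hzw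
    exact ⟨C x, y, hy, by rw [map_C, ← map_mul, e]⟩
  | add f g hf hg =>
    obtain ⟨F, r, hr, hF⟩ := hf
    obtain ⟨G, t, ht, hG⟩ := hg
    refine ⟨C t * F + C r * G, r * t, ‹p.IsPrime›.mul_notMem hr ht, ?_⟩
    simp only [map_add, map_mul, map_C, hF, hG]
    ring
  | mul_X f i hf =>
    obtain ⟨F, r, hr, hF⟩ := hf
    exact ⟨F * X i, r, hr, by rw [map_mul, map_X, hF, mul_assoc]⟩

theorem exists_witness (p : Ideal R) [p.IsPrime] (u : S) (hu : (1 : p.ResidueField) ⊗ₜ[R] u = 0) :
    ∃ r ∉ p, ∃ T : Finset R, ↑T ⊆ (p : Set R) ∧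
      r • u ∈ Ideal.span (algebraMap R S '' (T : Set R)) := by
  classical
  letI : Algebra S (p.Fiber S) := Algebra.TensorProduct.rightAlgebra
  let Sp := Localization (Algebra.algebraMapSubmonoid S p.primeCompl)
  have h : algebraMap S (Sp ⧸ (p.map (algebraMap R S)).map (algebraMap S Sp)) u = 0 := by
    rw [← (Ideal.Fiber.algEquivAux₁ (S := S) p).commutes]
    rw [show algebraMap S (p.Fiber S) u = (1 : p.ResidueField) ⊗ₜ[R] u from rfl, hu, map_zero]
  rw [IsScalarTower.algebraMap_apply S Sp, Ideal.Quotient.algebraMap_eq,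
    Ideal.Quotient.eq_zero_iff_mem,
    IsLocalization.algebraMap_mem_map_algebraMap_iff (Algebra.algebraMapSubmonoid S p.primeCompl) Sp] at h
  obtain ⟨_, ⟨r, hr, rfl⟩, hm⟩ := h
  obtain ⟨T, hT, hmem⟩ := Submodule.mem_span_finite_of_mem_span (R := S) hm
  refine ⟨r, hr, ?_⟩
  choose g hg hge using fun t (ht : t ∈ T) ↦ hT ht
  refine ⟨T.attach.image fun t ↦ g t.1 t.2, fun x hx ↦ ?_, ?_⟩
  · obtain ⟨t, -, rfl⟩ := Finset.mem_image.1 hx
    exact hg _ _
  · rw [Algebra.smul_def]
    refine Ideal.span_mono (fun t ht ↦ ?_) hmem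
    exact ⟨g t ht, Finset.mem_image.2 ⟨⟨t, ht⟩, Finset.mem_attach _ _, rfl⟩, hge t ht⟩

theorem tmul_eq_zero_of_witness (p : Ideal R) [p.IsPrime] (u : S) {r : R} (hr : r ∉ p)
    {T : Set R} (hT : T ⊆ p) (h : r • u ∈ Ideal.span (algebraMap R S '' T)) :
    (1 : p.ResidueField) ⊗ₜ[R] u = 0 := by
  let ι : S →ₐ[R] p.Fiber S := Algebra.TensorProduct.includeRight
  have h0 : ι (r • u) = 0 := by
    have hle : Ideal.span (algebraMap R S '' T) ≤ RingHom.ker ι := Ideal.span_le.2 (by
      rintro _ ⟨t, ht, rfl⟩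
      show ι (algebraMap R S t) = 0
      rw [AlgHom.commutes, IsScalarTower.algebraMap_apply R p.ResidueField (p.Fiber S),
        Ideal.algebraMap_residueField_eq_zero.2 (hT ht), map_zero])
    exact hle h
  rw [map_smul, ← algebraMap_smul p.ResidueField r] at h0
  exact ((isUnit_iff_ne_zero.2 fun e ↦ hr (Ideal.algebraMap_residueField_eq_zero.1 e)).smul_eq_zero).1 h0

/-- Finitely many polynomials give a nonzero relation in every fibre. -/
theorem exists_finite_relations {n : ℕ} (a : Fin n → S) (ha : IsFibreIntegral (R := R) a)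
    (hd : ∀ p : PrimeSpectrum R, ringKrullDim (p.asIdeal.Fiber S) < n) :
    ∃ G : Finset (MvPolynomial (Fin n) R), ∀ p : PrimeSpectrum R, ∃ g ∈ G,
      MvPolynomial.map (algebraMap R p.asIdeal.ResidueField) g ≠ 0 ∧
      (1 : p.asIdeal.ResidueField) ⊗ₜ[R] aeval a g = 0 := by
  classical
  have key : ∀ p : PrimeSpectrum R, ∃ (g : MvPolynomial (Fin n) R) (c : R) (T : Finset R),
      c ∉ p.asIdeal ∧ ↑T ⊆ (p.asIdeal : Set R) ∧ ∀ q : PrimeSpectrum R, c ∉ q.asIdeal →
        ↑T ⊆ (q.asIdeal : Set R) →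
        MvPolynomial.map (algebraMap R q.asIdeal.ResidueField) g ≠ 0 ∧
        (1 : q.asIdeal.ResidueField) ⊗ₜ[R] aeval a g = 0 := by
    intro p
    obtain ⟨f, hf, hf0⟩ : ∃ f, fibHom a p.asIdeal f = 0 ∧ f ≠ 0 := by
      by_contra! hc
      have hinj : Function.Injective (fibHom a p.asIdeal) :=
        (injective_iff_map_eq_zero _).2 hc
      have he := GrSegreLib.ringKrullDim_eq_of_integral_injective _ hinj (ha p)
      rw [MvPolynomial.ringKrullDim_of_isNoetherianRing, ringKrullDim_eq_zero_of_field, zero_add] at he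
      exact absurd (hd p) (by simp [← he])
    obtain ⟨G, r, hr, hG⟩ := exists_map_eq_C_mul p.asIdeal f
    have hne : MvPolynomial.map (algebraMap R p.asIdeal.ResidueField) G ≠ 0 := by
      rw [hG]
      exact mul_ne_zero (by rw [Ne, C_eq_zero]; exact fun e ↦ hr (Ideal.algebraMap_residueField_eq_zero.1 e)) hf0
    obtain ⟨v, hv⟩ := MvPolynomial.ne_zero_iff.1 hne
    rw [coeff_map] at hv
    have hz : (1 : p.asIdeal.ResidueField) ⊗ₜ[R] aeval a G = 0 := by
      rw [← fibHom_map, hG, map_mul, hf, mul_zero]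
    obtain ⟨t, ht, T, hT, hmem⟩ := exists_witness p.asIdeal _ hz
    refine ⟨G, t * coeff v G, T, p.2.mul_notMem ht fun e ↦ hv (Ideal.algebraMap_residueField_eq_zero.2 e),
      hT, fun q hq hTq ↦ ⟨MvPolynomial.ne_zero_iff.2 ⟨v, ?_⟩, ?_⟩⟩
    · rw [coeff_map]
      exact fun e ↦ hq (Ideal.mul_mem_left _ _ (Ideal.algebraMap_residueField_eq_zero.1 e))
    · exact tmul_eq_zero_of_witness q.asIdeal _ (fun e ↦ hq (Ideal.mul_mem_right _ _ e)) hTq hmem
  choose g c T hc hT hgood using key
  let e : WithConstructibleTopology (PrimeSpectrum R) → PrimeSpectrum R := WithTopology.ofTopology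
  let U : PrimeSpectrum R → Set (WithConstructibleTopology (PrimeSpectrum R)) := fun p ↦
    e ⁻¹' ((PrimeSpectrum.basicOpen (c p) : Set (PrimeSpectrum R)) ∩
      ⋂ t ∈ T p, (PrimeSpectrum.basicOpen t : Set (PrimeSpectrum R))ᶜ)
  obtain ⟨s, hs⟩ := isCompact_univ.elim_finite_subcover U (fun p ↦ by
      rw [WithConstructibleTopology.isOpen_iff]
      refine @IsOpen.inter (PrimeSpectrum R) (constructibleTopology _) _ _
        (TopologicalSpace.isOpen_generateFrom_of_mem ?_)
        (@Set.Finite.isOpen_biInter (PrimeSpectrum R) _ (constructibleTopology _) _ _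
          (T p).finite_toSet fun t _ ↦ TopologicalSpace.isOpen_generateFrom_of_mem ?_)
      · exact Or.inl ⟨(PrimeSpectrum.basicOpen (c p)).2, PrimeSpectrum.isCompact_basicOpen _⟩
      · exact Or.inr ⟨(PrimeSpectrum.basicOpen t).2.isClosed_compl, by
          rw [compl_compl]; exact PrimeSpectrum.isCompact_basicOpen _⟩)
    (fun x _ ↦ Set.mem_iUnion.2 ⟨e x, hc (e x), Set.mem_iInter₂.2 fun t ht ↦ by
      simpa using hT (e x) ht⟩)
  refine ⟨s.image g, fun p ↦ ?_⟩
  obtain ⟨i, hi, hmem⟩ := Set.mem_iUnion₂.1 (hs (Set.mem_univ (WithTopology.toTopology _ p)))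
  refine ⟨g i, Finset.mem_image_of_mem g hi, hgood i p ?_ fun t ht ↦ ?_⟩
  · exact hmem.1
  · have := Set.mem_iInter₂.1 hmem.2 t ht
    simpa [e] using this

theorem isFibreIntegral_succ {n : ℕ} (a : Fin (n + 1) → S) (ha : IsFibreIntegral (R := R) a)
    (hd : ∀ p : PrimeSpectrum R, ringKrullDim (p.asIdeal.Fiber S) < ((n + 1 : ℕ) : WithBot ℕ∞)) :
    ∃ a' : Fin n → S, IsFibreIntegral (R := R) a' := by
  obtain ⟨G, hG⟩ := exists_finite_relations a ha hd
  let N := 2 + G.sup MvPolynomial.totalDegree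
  refine ⟨fun i ↦ a i.succ - a 0 ^ (N ^ i.succ.1), fun p ↦ ?_⟩
  obtain ⟨g, hg, hne, hz⟩ := hG p
  have := isIntegral_step N (by omega) (fun i ↦ (1 : p.asIdeal.ResidueField) ⊗ₜ[R] a i) (ha p)
    (f := MvPolynomial.map (algebraMap R p.asIdeal.ResidueField) g) (fun v hv i ↦ ?_) hne
    ⟨1, by rw [pow_one]; exact (fibHom_map a p.asIdeal g).trans hz⟩
  · rw [fibHom]
    simpa [tmul_sub, Algebra.TensorProduct.tmul_pow] using this
  · have h1 : v ∈ g.support := MvPolynomial.support_map_subset _ _ hv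
    have h2 : g.totalDegree ≤ G.sup MvPolynomial.totalDegree := Finset.le_sup hg
    have h3 := (monomial_le_degreeOf i h1).trans (degreeOf_le_totalDegree g i)
    omega

theorem exists_isFibreIntegral [Algebra.FiniteType R S] (d : ℕ)
    (hd : ∀ p : PrimeSpectrum R, ringKrullDim (p.asIdeal.Fiber S) ≤ (d : WithBot ℕ∞)) :
    ∃ a : Fin d → S, IsFibreIntegral (R := R) a := by
  obtain ⟨n, a, ha⟩ := exists_generators (R := R) (S := S)
  induction n with
  | zero =>
    refine ⟨fun _ ↦ 0, fun p ↦ ?_⟩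
    have h : fibHom a p.asIdeal =
        (fibHom (fun _ ↦ (0 : S)) p.asIdeal : MvPolynomial (Fin d) _ →ₐ[_] _).comp
          (rename Fin.elim0) := MvPolynomial.algHom_ext fun i ↦ i.elim0
    have := ha p
    rw [h] at this
    exact RingHom.IsIntegral.tower_top _ _ this
  | succ n ih =>
    rcases Nat.lt_or_ge d (n + 1) with hn | hn
    · obtain ⟨a', ha'⟩ := isFibreIntegral_succ a ha fun p ↦
        lt_of_le_of_lt (hd p) (by exact_mod_cast hn)
      exact ih a' ha'
    · refine ⟨fun i ↦ if h : i.1 < n + 1 then a ⟨i.1, h⟩ else 0, fun p ↦ ?_⟩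
      have h : fibHom a p.asIdeal =
          (fibHom (fun i : Fin d ↦ if h : i.1 < n + 1 then a ⟨i.1, h⟩ else 0) p.asIdeal).comp
            (rename (Fin.castLE hn)) := MvPolynomial.algHom_ext fun i ↦ by
        simp only [fibHom, AlgHom.comp_apply, rename_X, aeval_X, Fin.val_castLE, dif_pos i.2]
      have := ha p
      rw [h] at this
      exact RingHom.IsIntegral.tower_top _ _ this

theorem quasiFinite_aeval [Algebra.FiniteType R S] {d : ℕ} (a : Fin d → S)
    (ha : IsFibreIntegral (R := R) a) : (aeval (R := R) a).toRingHom.QuasiFinite := by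
  letI : Algebra (MvPolynomial (Fin d) R) S := (aeval (R := R) a).toRingHom.toAlgebra
  haveI : IsScalarTower R (MvPolynomial (Fin d) R) S :=
    IsScalarTower.of_algebraMap_eq fun x ↦ ((aeval (R := R) a).commutes x).symm
  haveI : Algebra.FiniteType (MvPolynomial (Fin d) R) S :=
    Algebra.FiniteType.of_restrictScalars_finiteType R _ S
  show Algebra.QuasiFinite (MvPolynomial (Fin d) R) S
  refine ⟨fun P hP ↦ ?_⟩
  let p : PrimeSpectrum R := ⟨P.under R, inferInstance⟩
  haveI : P.LiesOver p.asIdeal := ⟨rfl⟩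
  let res : p.asIdeal.ResidueField →+* P.ResidueField :=
    Ideal.ResidueField.map p.asIdeal P (algebraMap R _) rfl
  have hres : ∀ r, res (algebraMap R _ r) = algebraMap R P.ResidueField r := fun r ↦ by
    rw [IsScalarTower.algebraMap_apply R (MvPolynomial (Fin d) R) P.ResidueField]
    exact Ideal.ResidueField.map_algebraMap _ _ _ _ r
  letI : Algebra p.asIdeal.ResidueField P.ResidueField := res.toAlgebra
  haveI : IsScalarTower R p.asIdeal.ResidueField P.ResidueField :=
    IsScalarTower.of_algebraMap_eq fun r ↦ (hres r).symm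
  let Θ : p.asIdeal.Fiber S →ₐ[p.asIdeal.ResidueField] P.Fiber S :=
    Algebra.TensorProduct.lift (Algebra.ofId p.asIdeal.ResidueField _)
      ((Algebra.TensorProduct.includeRight :
        S →ₐ[MvPolynomial (Fin d) R] P.Fiber S).restrictScalars R) fun _ _ ↦ Commute.all _ _
  let ψ : MvPolynomial (Fin d) p.asIdeal.ResidueField →ₐ[p.asIdeal.ResidueField] P.ResidueField :=
    aeval fun i ↦ algebraMap (MvPolynomial (Fin d) R) P.ResidueField (X i)
  have hcomm : (Θ.comp (fibHom a p.asIdeal)) =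
      (IsScalarTower.toAlgHom p.asIdeal.ResidueField P.ResidueField (P.Fiber S)).comp ψ := by
    refine MvPolynomial.algHom_ext fun i ↦ ?_
    simp only [Θ, ψ, fibHom, AlgHom.comp_apply, aeval_X, Algebra.TensorProduct.lift_tmul, map_one,
      one_mul, AlgHom.restrictScalars_apply, Algebra.TensorProduct.includeRight_apply,
      IsScalarTower.coe_toAlgHom']
    rw [← IsScalarTower.algebraMap_apply (MvPolynomial (Fin d) R) P.ResidueField (P.Fiber S),
      Algebra.TensorProduct.algebraMap_apply', RingHom.algebraMap_toAlgebra]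
    simp
  haveI : Algebra.IsIntegral P.ResidueField (P.Fiber S) := ⟨fun z ↦ by
    induction z using TensorProduct.induction_on with
    | zero => exact isIntegral_zero
    | add x y hx hy => exact hx.add hy
    | tmul c s =>
      rw [← mul_one c, ← one_mul s, ← Algebra.TensorProduct.tmul_mul_tmul]
      refine (isIntegral_algebraMap (R := P.ResidueField) (x := c)).mul ?_
      obtain ⟨g, hg, hgz⟩ := ha p ((1 : p.asIdeal.ResidueField) ⊗ₜ[R] s)
      refine ⟨g.map ψ.toRingHom, hg.map _, ?_⟩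
      have : Θ ((1 : p.asIdeal.ResidueField) ⊗ₜ[R] s) = (1 : P.ResidueField) ⊗ₜ[MvPolynomial (Fin d) R] s := by
        simp [Θ]
      rw [Polynomial.eval₂_map, ← this, show (algebraMap P.ResidueField (P.Fiber S)).comp ψ.toRingHom =
        Θ.toRingHom.comp (fibHom a p.asIdeal).toRingHom from congrArg AlgHom.toRingHom hcomm.symm]
      show Polynomial.eval₂ _ (Θ.toRingHom _) g = 0
      rw [← Polynomial.hom_eval₂, hgz, map_zero]⟩
  exact Algebra.IsIntegral.finite

end Groth.Agent.FibreNoether
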