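import Mathlib.RingTheory.NoetherNormalization
import Mathlib.RingTheory.IntegralClosure.IsIntegralClosure.Basic

/-!
# The Nagata substitution with a prescribed exponent base

Adapted from the proof of Noether normalisation in Mathlib, allowing any large enough base so that
one substitution works for finitely many polynomials and all fibres at the same time.
-/

set_option autoImplicit false
set_option linter.style.haveILetI false

open MvPolynomial List

namespace Groth.Agent.FibreNoether

universe u v

variable {k : Type u} [Field k] {n : ℕ} (N : ℕ)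

/-- The substitution `X_i ↦ X_i + X_0 ^ (N ^ i)`. -/
noncomputable def subst : MvPolynomial (Fin (n + 1)) k →ₐ[k] MvPolynomial (Fin (n + 1)) k :=
  aeval fun i ↦ if i = 0 then X 0 else X i + X 0 ^ (N ^ i.1)

theorem subst_zero : subst (k := k) (n := n) N (X 0) = X 0 := by simp [subst]

theorem subst_succ (i : Fin n) :
    subst (k := k) (n := n) N (X i.succ) = X i.succ + X 0 ^ (N ^ i.succ.1) := by simp [subst]

theorem subst_injective : Function.Injective (subst (k := k) (n := n) N) := by
  let inv : MvPolynomial (Fin (n + 1)) k →ₐ[k] MvPolynomial (Fin (n + 1)) k :=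
    aeval fun i ↦ if i = 0 then X 0 else X i - X 0 ^ (N ^ i.1)
  have h : inv.comp (subst N) = AlgHom.id _ _ := by
    refine MvPolynomial.algHom_ext fun i ↦ ?_
    cases i using Fin.cases <;> simp [inv, subst, Fin.succ_ne_zero]
  exact Function.LeftInverse.injective (g := inv) (fun a ↦ DFunLike.congr_fun h a)

theorem sum_mul_ne (hN : 1 < N) {v w : Fin (n + 1) →₀ ℕ} (vlt : ∀ i, v i < N) (wlt : ∀ i, w i < N)
    (ne : v ≠ w) :
    ∑ x : Fin (n + 1), N ^ x.1 * v x ≠ ∑ x : Fin (n + 1), N ^ x.1 * w x := by
  intro h
  refine ne <| Finsupp.ext <| congrFun <| ofFn_inj.mp ?_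
  have hlt : ∀ u : Fin (n + 1) →₀ ℕ, (∀ i, u i < N) → ∀ l ∈ ofFn u, l < N := fun u hu l hl ↦ by
    obtain ⟨i, rfl⟩ := List.mem_ofFn.1 hl
    exact hu i
  apply Nat.ofDigits_inj_of_len_eq hN (by simp) (hlt v vlt) (hlt w wlt)
  simpa only [Nat.ofDigits_eq_sum_mapIdx, mapIdx_eq_ofFn, get_ofFn, length_ofFn,
    Fin.val_cast, mul_comm, sum_ofFn] using! h

variable (v : Fin (n + 1) →₀ ℕ)

theorem natDegree_subst_monomial {a : k} (ha : a ≠ 0) :
    (finSuccEquiv k n (subst N (monomial v a))).natDegree = ∑ i : Fin (n + 1), N ^ i.1 * v i := by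
  rw [monomial_eq, Finsupp.prod_pow v fun a ↦ X a]
  simp only [Fin.prod_univ_succ, Fin.sum_univ_succ, map_mul, map_prod, map_pow, subst_zero,
    subst_succ, map_add, finSuccEquiv_X_zero, finSuccEquiv_X_succ]
  have hC : finSuccEquiv k n (subst N (C a)) = Polynomial.C (C a) := by
    rw [← algebraMap_eq, AlgHom.commutes, AlgEquiv.commutes]
    rfl
  rw [hC]
  have h (i : Fin n) :
      (Polynomial.C (X (R := k) i) + Polynomial.X ^ (N ^ i.succ.1)) ^ v i.succ ≠ 0 :=
    pow_ne_zero (v i.succ) (Polynomial.leadingCoeff_ne_zero.mp <| by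
      rcases Nat.eq_zero_or_pos (N ^ i.succ.1) with h0 | h0
      · rw [h0, pow_zero, ← Polynomial.C_1, ← Polynomial.C_add, Polynomial.leadingCoeff_C]
        intro h
        simpa using congrArg (MvPolynomial.eval fun _ ↦ (0 : k)) h
      · rw [add_comm, Polynomial.leadingCoeff_X_pow_add_C h0]
        exact one_ne_zero)
  rw [Polynomial.natDegree_mul (by simp [ha]) (mul_ne_zero (by simp) (Finset.prod_ne_zero_iff.mpr
    (fun i _ ↦ h i))), Polynomial.natDegree_mul (by simp) (Finset.prod_ne_zero_iff.mpr (fun i _ ↦ h i)),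
    Polynomial.natDegree_prod _ _ (fun i _ ↦ h i), Polynomial.natDegree_C]
  simpa only [Polynomial.natDegree_pow, zero_add, Polynomial.natDegree_X, mul_one, Fin.val_zero, pow_zero, one_mul,
    add_right_inj] using Finset.sum_congr rfl (fun i _ ↦ by
    rw [add_comm (Polynomial.C _), Polynomial.natDegree_X_pow_add_C, mul_comm])

theorem leadingCoeff_subst_monomial (hN : 0 < N) (a : k) :
    (finSuccEquiv k n (subst N (monomial v a))).leadingCoeff = C a := by
  rw [monomial_eq, Finsupp.prod_fintype]
  · simp only [map_mul, map_prod, Polynomial.leadingCoeff_mul, Polynomial.leadingCoeff_prod]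
    have hC : finSuccEquiv k n (subst N (C a)) = Polynomial.C (C a) := by
      rw [← algebraMap_eq, AlgHom.commutes, AlgEquiv.commutes]
      rfl
    rw [hC, Polynomial.leadingCoeff_C]
    have : ∀ j, (finSuccEquiv k n (subst N (X j))).leadingCoeff = 1 := fun j ↦ by
      cases j using Fin.cases with
      | zero => simp [subst_zero, finSuccEquiv_X_zero]
      | succ i =>
        rw [subst_succ, map_add, map_pow, finSuccEquiv_X_succ, finSuccEquiv_X_zero, add_comm,
          Polynomial.leadingCoeff_X_pow_add_C (Nat.pow_pos hN)]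
    simp only [map_pow, Polynomial.leadingCoeff_pow, this, one_pow, Finset.prod_const_one, mul_one]
  exact fun i ↦ pow_zero _

/-- After the substitution a nonzero polynomial has unit leading coefficient in `X_0`. -/
theorem isUnit_leadingCoeff_subst (hN : 1 < N) {f : MvPolynomial (Fin (n + 1)) k}
    (hf : ∀ v ∈ f.support, ∀ i, v i < N) (fne : f ≠ 0) :
    IsUnit (finSuccEquiv k n (subst N f)).leadingCoeff := by
  obtain ⟨v, vin, vs⟩ := Finset.exists_max_image f.support
    (fun v ↦ (finSuccEquiv k n (subst N ((monomial v) (coeff v f)))).natDegree) (support_nonempty.mpr fne)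
  set h := fun w ↦ (MvPolynomial.monomial w) (coeff w f)
  replace vs : ∀ x ∈ f.support \ {v}, (finSuccEquiv k n (subst N (h x))).degree <
      (finSuccEquiv k n (subst N (h v))).degree := by
    intro x hx
    obtain ⟨h1, h2⟩ := Finset.mem_sdiff.mp hx
    apply Polynomial.degree_lt_degree <| lt_of_le_of_ne (vs x h1) ?_
    rw [natDegree_subst_monomial N _ (mem_support_iff.mp h1),
      natDegree_subst_monomial N _ (mem_support_iff.mp vin)]
    exact sum_mul_ne N hN (hf x h1) (hf v vin) (by simpa using h2)
  have coeff : (finSuccEquiv k n (subst N (h v + ∑ x ∈ f.support \ {v}, h x))).leadingCoeff =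
      (finSuccEquiv k n (subst N (h v))).leadingCoeff := by
    simp only [map_add, map_sum]
    rw [add_comm]
    apply Polynomial.leadingCoeff_add_of_degree_lt <| (lt_of_le_of_lt <| Polynomial.degree_sum_le _ _) ?_
    have h2 : h v ≠ 0 := by simpa [h] using mem_support_iff.mp vin
    replace h2 : finSuccEquiv k n (subst N (h v)) ≠ 0 :=
      ((finSuccEquiv k n).map_ne_zero_iff).2 fun e ↦ h2 (subst_injective N (e.trans (map_zero _).symm))
    exact (Finset.sup_lt_iff <| Ne.bot_lt (fun x ↦ h2 <| Polynomial.degree_eq_bot.mp x)).mpr vs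
  nth_rw 1 [← f.support_sum_monomial_coeff]
  rw [Finset.sum_eq_add_sum_sdiff_singleton_of_mem vin h, coeff,
    leadingCoeff_subst_monomial N _ (by lia)]
  exact (mem_support_iff.mp vin).isUnit.map _

variable {F : Type v} [CommRing F] [Algebra k F]

/-- One normalisation step: a nilpotent relation lowers the number of variables. -/
theorem isIntegral_step (hN : 1 < N) (b : Fin (n + 1) → F)
    (hb : (aeval (R := k) b).toRingHom.IsIntegral) {f : MvPolynomial (Fin (n + 1)) k}
    (hf : ∀ v ∈ f.support, ∀ i, v i < N) (fne : f ≠ 0) (hnil : IsNilpotent (aeval b f)) :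
    (aeval (R := k) fun i : Fin n ↦ b i.succ - b 0 ^ (N ^ i.succ.1)).toRingHom.IsIntegral := by
  set b' : Fin n → F := fun i ↦ b i.succ - b 0 ^ (N ^ i.succ.1) with hb'
  letI : Algebra (MvPolynomial (Fin n) k) F := (aeval (R := k) b').toRingHom.toAlgebra
  haveI : IsScalarTower k (MvPolynomial (Fin n) k) F :=
    IsScalarTower.of_algebraMap_eq fun x ↦ ((aeval (R := k) b').commutes x).symm
  let P : MvPolynomial (Fin (n + 1)) k →ₐ[k] F :=
    ((Polynomial.aeval (R := MvPolynomial (Fin n) k) (b 0)).restrictScalars k).comp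
      (finSuccEquiv k n).toAlgHom
  have hP : P.comp (subst N) = aeval b := by
    refine MvPolynomial.algHom_ext fun i ↦ ?_
    cases i using Fin.cases with
    | zero => simp [P, subst_zero, finSuccEquiv_X_zero]
    | succ i =>
      simp [P, subst_succ, finSuccEquiv_X_succ, finSuccEquiv_X_zero, RingHom.algebraMap_toAlgebra, b']
  obtain ⟨m, hm⟩ := hnil
  set q := finSuccEquiv k n (subst N f) with hq
  have hu : IsUnit q.leadingCoeff := isUnit_leadingCoeff_subst N hN hf fne
  have hqm : IsUnit (q ^ m).leadingCoeff := by rw [Polynomial.leadingCoeff_pow]; exact hu.pow m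
  have h0 : IsIntegral (MvPolynomial (Fin n) k) (b 0) := by
    refine ⟨_, Polynomial.monic_of_isUnit_leadingCoeff_inv_smul hqm, ?_⟩
    rw [← Polynomial.aeval_def, Units.smul_def, map_smul, map_pow]
    have : Polynomial.aeval (b 0) q = aeval b f := DFunLike.congr_fun hP f
    rw [this, hm, smul_zero]
  have hbi : ∀ i, IsIntegral (MvPolynomial (Fin n) k) (b i) := by
    intro i
    cases i using Fin.cases with
    | zero => exact h0
    | succ i =>
      have : b i.succ = algebraMap (MvPolynomial (Fin n) k) F (X i) + b 0 ^ (N ^ i.succ.1) := by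
        simp [RingHom.algebraMap_toAlgebra, b']
      rw [this]
      exact isIntegral_algebraMap.add (h0.pow _)
  let C' : Subalgebra (MvPolynomial (Fin n) k) F := integralClosure _ F
  have hrange : ∀ p, aeval (R := k) b p ∈ C' := fun p ↦ by
    induction p using MvPolynomial.induction_on with
    | C a =>
      rw [aeval_C, IsScalarTower.algebraMap_apply k (MvPolynomial (Fin n) k) F]
      exact C'.algebraMap_mem _
    | add p q hp hq => rw [map_add]; exact add_mem hp hq
    | mul_X p i hp => rw [map_mul, aeval_X]; exact mul_mem hp (hbi i)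
  intro z
  show IsIntegral (MvPolynomial (Fin n) k) z
  obtain ⟨g, hg, hgz⟩ := hb z
  refine isIntegral_trans (R := MvPolynomial (Fin n) k) (A := C') z
    ⟨g.map ((aeval (R := k) b).toRingHom.codRestrict C'.toSubring hrange), hg.map _, ?_⟩
  rw [Polynomial.eval₂_map]
  exact hgz

end Groth.Agent.FibreNoether
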